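import Mathlib
import Cfsg.Agent.Lib.Helper42.EXTE1
import Cfsg.Agent.Lib.Helper65.EXTE2
import Cfsg.Agent.Lib.Helper65.EXTE3

/-!
# EXT pieces (helper43 mini-server for S5515), delivered by helper42 (E1) and helper65 (E2, E3);
restated under the signature namespace so that the assembly `Ext/Main.lean` compiles unchanged.
-/

set_option autoImplicit false

namespace Cfsg.Agent.Helper43.EXTSigs

theorem perm4_card_six_conj (H₁ H₂ : Subgroup (Equiv.Perm (Fin 4))) (h₁ : Nat.card H₁ = 6)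
    (h₂ : Nat.card H₂ = 6) :
    ∃ g : Equiv.Perm (Fin 4), H₂ = H₁.map (MulAut.conj g).toMonoidHom :=
  Cfsg.Agent.Helper42.EXT.perm4_card_six_conj H₁ H₂ h₁ h₂

theorem embed_aut {G : Type*} [Group G] {L : Type*} [Group L] (N : Subgroup G) [N.Normal]
    (e : ↥N ≃* L) (hZ : Subgroup.center L = ⊥) (hC : Subgroup.centralizer (N : Set G) ≤ N) :
    ∃ φ : G →* MulAut L, Function.Injective φ ∧
      N.map φ = (MulAut.conj : L →* MulAut L).range :=
  Cfsg.Agent.Helper65.EXT.embed_aut N e hZ hC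

theorem iso_of_conj_mod {A : Type*} [Group A] (I : Subgroup A) [I.Normal] (X₁ X₂ : Subgroup A)
    (hI₁ : I ≤ X₁) (hI₂ : I ≤ X₂) (t : A ⧸ I)
    (h : X₂.map (QuotientGroup.mk' I) =
      (X₁.map (QuotientGroup.mk' I)).map (MulAut.conj t).toMonoidHom) :
    Nonempty (↥X₁ ≃* ↥X₂) :=
  Cfsg.Agent.Helper65.EXT.iso_of_conj_mod I X₁ X₂ hI₁ hI₂ t h

end Cfsg.Agent.Helper43.EXTSigs
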