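import Mathlib
import Cfsg.Agent.Lib.Helper43.Ext.Pieces

/-!
# Uniqueness of extensions `L.S₃` when `Out L ≅ S₄`
-/

set_option autoImplicit false

namespace Cfsg.Agent.Helper43.Ext

open Cfsg.Agent.Helper43.EXTSigs

theorem card_image_out {G : Type*} [Group G] {L : Type*} [Group L] (N : Subgroup G)
    (φ : G →* MulAut L) (hφ : Function.Injective φ)
    (hφN : N.map φ = (MulAut.conj : L →* MulAut L).range)
    [((MulAut.conj : L →* MulAut L).range).Normal] :
    Nat.card ↥(φ.range.map (QuotientGroup.mk' (MulAut.conj : L →* MulAut L).range)) = N.index := by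
  rw [← Subgroup.relIndex_ker]
  rw [QuotientGroup.ker_mk', ← hφN, MonoidHom.range_eq_map,
    Subgroup.relIndex_map_map_of_injective N ⊤ hφ, Subgroup.relIndex_top_right]

theorem map_conj_equiv {A B : Type*} [Group A] [Group B] (ω : A ≃* B) (K : Subgroup A) (t : A) :
    (K.map (MulAut.conj t).toMonoidHom).map ω.toMonoidHom =
      (K.map ω.toMonoidHom).map (MulAut.conj (ω t)).toMonoidHom := by
  rw [Subgroup.map_map, Subgroup.map_map]
  congr 1
  apply MonoidHom.ext
  intro x
  simp only [MonoidHom.coe_comp, Function.comp_apply, MulEquiv.coe_toMonoidHom, MulAut.conj_apply,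
    map_mul, map_inv]

/-- two groups with the same centreless self-centralising normal subgroup `L` of index 6 are isomorphic
when `Out L ≅ S₄` -/
theorem ext_unique {L : Type*} [Group L] (hZ : Subgroup.center L = ⊥)
    [hI : ((MulAut.conj : L →* MulAut L).range).Normal]
    (ω : (MulAut L ⧸ (MulAut.conj : L →* MulAut L).range) ≃* Equiv.Perm (Fin 4))
    {G : Type*} [Group G] {G' : Type*} [Group G']
    (N : Subgroup G) [N.Normal] (e : ↥N ≃* L) (hC : Subgroup.centralizer (N : Set G) ≤ N)
    (hidx : N.index = 6)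
    (N' : Subgroup G') [N'.Normal] (e' : ↥N' ≃* L) (hC' : Subgroup.centralizer (N' : Set G') ≤ N')
    (hidx' : N'.index = 6) :
    Nonempty (G ≃* G') := by
  obtain ⟨φ, hφ, hφN⟩ := embed_aut N e hZ hC
  obtain ⟨φ', hφ', hφN'⟩ := embed_aut N' e' hZ hC'
  set I : Subgroup (MulAut L) := (MulAut.conj : L →* MulAut L).range with hIdef
  have hI₁ : I ≤ φ.range := by
    rw [← hφN, MonoidHom.range_eq_map]
    exact Subgroup.map_mono le_top
  have hI₂ : I ≤ φ'.range := by
    rw [← hφN', MonoidHom.range_eq_map]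
    exact Subgroup.map_mono le_top
  set π := QuotientGroup.mk' I with hπ
  have hc₁ : Nat.card ↥((φ.range.map π).map ω.toMonoidHom) = 6 := by
    rw [Subgroup.card_map_of_injective ω.injective, card_image_out N φ hφ hφN, hidx]
  have hc₂ : Nat.card ↥((φ'.range.map π).map ω.toMonoidHom) = 6 := by
    rw [Subgroup.card_map_of_injective ω.injective, card_image_out N' φ' hφ' hφN', hidx']
  obtain ⟨g, hg⟩ := perm4_card_six_conj _ _ hc₁ hc₂
  have hconj : φ'.range.map π = (φ.range.map π).map (MulAut.conj (ω.symm g)).toMonoidHom := by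
    apply Subgroup.map_injective (f := ω.toMonoidHom) ω.injective
    rw [map_conj_equiv, MulEquiv.apply_symm_apply]
    exact hg
  obtain ⟨ε⟩ := iso_of_conj_mod I φ.range φ'.range hI₁ hI₂ (ω.symm g) hconj
  exact ⟨(MonoidHom.ofInjective hφ).trans (ε.trans (MonoidHom.ofInjective hφ').symm)⟩

end Cfsg.Agent.Helper43.Ext
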